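import Mathlib
import Groth.Agent.Lib.Helper1.DimLocF
import Groth.Agent.Lib.Helper1.DimFun2
import Groth.Agent.Lib.Helper1.DimFormula

set_option autoImplicit false
universe u

namespace H5FibDim

open AlgebraicGeometry CategoryTheory

theorem main9381 {X S : Scheme.{u}} (f : X ⟶ S) [LocallyOfFiniteType f] (x x' : X)
    (hsp : x ⤳ x') (hne : x ≠ x') (hfx : f.base x = f.base x') :
    @Algebra.trdeg (S.residueField (f.base x')) (X.residueField x') _ _ (f.residueFieldMap x').hom.toAlgebra <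
      @Algebra.trdeg (S.residueField (f.base x)) (X.residueField x) _ _ (f.residueFieldMap x).hom.toAlgebra := by
  obtain ⟨V, hV, hfxV⟩ : ∃ V : S.Opens, IsAffineOpen V ∧ f.base x' ∈ V := by
    obtain ⟨_, ⟨V, hV, rfl⟩, hz, -⟩ :=
      S.isBasis_affineOpens.exists_subset_of_mem_open (Set.mem_univ (f.base x')) isOpen_univ
    exact ⟨V, hV, hz⟩
  obtain ⟨_, ⟨U, hU, rfl⟩, hxU', hUV⟩ :=
    X.isBasis_affineOpens.exists_subset_of_mem_open (show x' ∈ (f ⁻¹ᵁ V : Set ↑X) from hfxV)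
      (f ⁻¹ᵁ V).isOpen
  have e : U ≤ f ⁻¹ᵁ V := hUV
  have hxU : x ∈ U := hsp.mem_open U.2 hxU'
  have key := Groth.Agent.H1.DimLoc.chart_fibre_eq f hU hV e x' x hxU' hxU hsp hfx
  have h1 := (Groth.Agent.H1.DimFun.one_le_height_map_mk hU x x' hxU hxU' hsp hne).1
  obtain ⟨t, ht, -⟩ := Groth.Agent.H1.DimFormula.exists_fibreDimAt_eq_stalk_add_trdeg f x'
  change Dual3.resTrdeg f x' < Dual3.resTrdeg f x
  have ht' : Dual3.resTrdeg f x' = t := ht
  rw [← key, ht']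
  set c := ((hU.primeIdealOf ⟨x', hxU'⟩).asIdeal.map
      (Ideal.Quotient.mk (hU.primeIdealOf ⟨x, hxU⟩).asIdeal)).height with hc
  have h2 : (1 : Cardinal.{u}) ≤ ((c : ℕ∞) : Cardinal.{u}) := by
    have : ((1 : ℕ∞) : Cardinal.{u}) ≤ ((c : ℕ∞) : Cardinal.{u}) := by
      exact Cardinal.ofENat_le_ofENat.mpr h1
    simpa using this
  calc (t : Cardinal.{u}) < (t : Cardinal.{u}) + 1 := by
        exact_mod_cast Nat.lt_succ_self t
    _ ≤ (t : Cardinal.{u}) + ((c : ℕ∞) : Cardinal.{u}) := by gcongr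
    _ = ((c : ℕ∞) : Cardinal.{u}) + (t : Cardinal.{u}) := add_comm _ _

end H5FibDim
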